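import Mathlib

/-!
# Endomorphisms of finite projective modules through a free module containing them as a summand
-/

set_option autoImplicit false
set_option backward.isDefEq.respectTransparency false
universe u v w

open scoped TensorProduct
open Module

namespace Groth.Agent.LieCartan

section Aug

variable {R : Type u} [CommRing R] {Q : Type v} [AddCommGroup Q] [Module R Q] {F : Type w} [AddCommGroup F]
  [Module R F] (i : Q →ₗ[R] F) (π : F →ₗ[R] Q)

/-- Extension of an endomorphism of a direct summand by the identity on the complement. -/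
def aug : Module.End R Q →ₗ[R] Module.End R F where
  toFun g := i ∘ₗ g ∘ₗ π
  map_add' f g := by ext; simp
  map_smul' c g := by ext; simp

/-- The projection to the complement. -/
def compl : Module.End R F := LinearMap.id - i ∘ₗ π

/-- The extension by the identity. -/
def aug1 (g : Module.End R Q) : Module.End R F := aug i π g + compl i π

variable {i π} (h : π ∘ₗ i = LinearMap.id)
include h

theorem π_i (x : Q) : π (i x) = x := LinearMap.congr_fun h x

theorem π_aug1 (g : Module.End R Q) (v : F) : π (aug1 i π g v) = g (π v) := by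
  simp [aug1, aug, compl, π_i h]

theorem compl_aug1 (g : Module.End R Q) (v : F) : compl i π (aug1 i π g v) = compl i π v := by
  simp [aug1, aug, compl, π_i h]

theorem aug1_i (g : Module.End R Q) (x : Q) : aug1 i π g (i x) = i (g x) := by
  simp [aug1, aug, compl, π_i h]

theorem decomp (v : F) : i (π v) + compl i π v = v := by simp [compl]

theorem π_compl (v : F) : π (compl i π v) = 0 := by simp [compl, π_i h]

theorem aug1_compl (g : Module.End R Q) (v : F) : aug1 i π g (compl i π v) = compl i π v := by
  simp [aug1, aug, compl, π_i h]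

theorem aug1_mul (f g : Module.End R Q) : aug1 i π (f * g) = aug1 i π f * aug1 i π g := by
  ext v
  simp [aug1, aug, compl, π_i h]

theorem aug1_one : aug1 i π (1 : Module.End R Q) = 1 := by ext v; simp [aug1, aug, compl]

theorem aug1_pow (g : Module.End R Q) : ∀ n : ℕ, aug1 i π g ^ n = aug1 i π (g ^ n)
  | 0 => by rw [pow_zero, pow_zero, aug1_one h]
  | n + 1 => by rw [pow_succ, pow_succ, aug1_mul h, aug1_pow g n]

theorem bijective_aug1_iff (g : Module.End R Q) :
    Function.Bijective (aug1 i π g) ↔ Function.Bijective g := by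
  constructor
  · rintro ⟨hi, hs⟩
    refine ⟨fun x y hxy => ?_, fun y => ?_⟩
    · have := hi (show aug1 i π g (i x) = aug1 i π g (i y) by rw [aug1_i h, aug1_i h, hxy])
      simpa [π_i h] using congrArg π this
    · obtain ⟨v, hv⟩ := hs (i y)
      exact ⟨π v, by rw [← π_aug1 h, hv, π_i h]⟩
  · rintro ⟨hi, hs⟩
    refine ⟨fun v w hvw => ?_, fun w => ?_⟩
    · have h1 := congrArg π hvw
      rw [π_aug1 h, π_aug1 h] at h1
      have h2 := congrArg (compl i π) hvw
      rw [compl_aug1 h, compl_aug1 h] at h2
      rw [← decomp h v, ← decomp h w, hi h1, h2]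
    · obtain ⟨x, hx⟩ := hs (π w)
      refine ⟨i x + compl i π w, ?_⟩
      rw [map_add, aug1_i h, aug1_compl h, hx, decomp h]

end Aug

section Field

variable {K : Type u} [Field K] {Q : Type v} [AddCommGroup Q] [Module K Q] [Module.Finite K Q] {F : Type w}
  [AddCommGroup F] [Module K F] [Module.Finite K F] {i : Q →ₗ[K] F} {π : F →ₗ[K] Q} (h : π ∘ₗ i = LinearMap.id)
include h

theorem natTrailingDegree_charpoly_aug1 (g : Module.End K Q) :
    (aug1 i π g).charpoly.natTrailingDegree = g.charpoly.natTrailingDegree := by
  rw [← LinearMap.finrank_maxGenEigenspace_zero_eq, ← LinearMap.finrank_maxGenEigenspace_zero_eq]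
  have hmap : (g.maxGenEigenspace 0).map i = (aug1 i π g).maxGenEigenspace 0 := by
    ext v
    simp only [Submodule.mem_map, Module.End.mem_maxGenEigenspace, zero_smul, sub_zero]
    constructor
    · rintro ⟨x, ⟨n, hn⟩, rfl⟩
      exact ⟨n, by rw [aug1_pow h, aug1_i h, hn, map_zero]⟩
    · rintro ⟨n, hn⟩
      rw [aug1_pow h] at hn
      have h1 := congrArg π hn
      rw [π_aug1 h, map_zero] at h1
      have h2 := congrArg (compl i π) hn
      rw [compl_aug1 h, map_zero] at h2
      refine ⟨π v, ⟨n, h1⟩, ?_⟩
      conv_rhs => rw [← decomp h v, h2, add_zero]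
  rw [← hmap]
  exact ((g.maxGenEigenspace 0).equivMapOfInjective i
    (Function.LeftInverse.injective (π_i h))).finrank_eq.symm

end Field

section Det

variable {A : Type u} [CommRing A] {Q : Type v} [AddCommGroup Q] [Module A Q] [Module.Finite A Q]
  [Module.Projective A Q]

theorem exists_aug : ∃ (n : ℕ) (i : Q →ₗ[A] (Fin n → A)) (π : (Fin n → A) →ₗ[A] Q), π ∘ₗ i = LinearMap.id := by
  obtain ⟨n, π, hπ⟩ := Module.Finite.exists_fin' A Q
  obtain ⟨i, hi⟩ := Module.projective_lifting_property π LinearMap.id hπ
  exact ⟨n, i, π, hi⟩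

variable (K : Type w) [Field K] [Algebra A K]

theorem baseChange_aug1 {F : Type w} [AddCommGroup F] [Module A F] (i : Q →ₗ[A] F) (π : F →ₗ[A] Q)
    (g : Module.End A Q) :
    (aug1 i π g).baseChange K = aug1 (i.baseChange K) (π.baseChange K) (g.baseChange K) := by
  ext v
  simp [aug1, aug, compl, TensorProduct.tmul_sub, TensorProduct.tmul_add]

theorem baseChange_section {F : Type w} [AddCommGroup F] [Module A F] {i : Q →ₗ[A] F} {π : F →ₗ[A] Q}
    (h : π ∘ₗ i = LinearMap.id) : (π.baseChange K) ∘ₗ (i.baseChange K) = LinearMap.id := by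
  rw [← LinearMap.baseChange_comp, h, LinearMap.baseChange_id]

variable {K}

/-- The determinant-like invariant of an endomorphism of a finite projective module. -/
theorem exists_det (g : Module.End A Q) : ∃ δ : A,
    (∀ (K : Type u) [Field K] [Algebra A K], algebraMap A K δ ≠ 0 ↔ Function.Bijective (g.baseChange K)) ∧
    (∀ (n : ℕ) (z : Q), (g ^ n) z = 0 → δ ^ n • z = 0) ∧ (IsUnit δ → Function.Bijective g) := by
  obtain ⟨n, i, π, h⟩ := exists_aug (A := A) (Q := Q)
  let G := aug1 i π g
  refine ⟨LinearMap.det G, fun K _ _ => ?_, ?_, fun hu => ?_⟩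
  · rw [← bijective_aug1_iff (baseChange_section K h), ← baseChange_aug1, ← LinearMap.det_baseChange,
      ← Module.End.isUnit_iff, ← isUnit_iff_ne_zero]
    exact ⟨fun hu => LinearMap.isUnit_iff_isUnit_det _ |>.mpr hu, fun hu => LinearMap.isUnit_iff_isUnit_det _ |>.mp hu⟩
  · have h1 : ∀ z : Q, g z = 0 → LinearMap.det G • z = 0 := by
      intro z hz
      let M := LinearMap.toMatrix' G
      have h0 : M.mulVec (i z) = 0 := by
        rw [LinearMap.toMatrix'_mulVec, aug1_i h, hz, map_zero]
      have h2 : M.det • i z = 0 := by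
        have := congrArg (M.adjugate.mulVec) h0
        rwa [Matrix.mulVec_mulVec, Matrix.adjugate_mul, Matrix.smul_mulVec, Matrix.one_mulVec,
          Matrix.mulVec_zero] at this
      rw [LinearMap.det_toMatrix'] at h2
      simpa [π_i h] using congrArg π h2
    intro m
    induction m with
    | zero => intro z hz; simpa using hz
    | succ m ih =>
      intro z hz
      rw [pow_succ, Module.End.mul_apply] at hz
      have := h1 (LinearMap.det G ^ m • z) (by rw [map_smul]; exact ih (g z) hz)
      rw [pow_succ', mul_smul]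
      exact this
  · refine (bijective_aug1_iff h g).mp ((Module.End.isUnit_iff _).mp ?_)
    exact (LinearMap.isUnit_iff_isUnit_det _).mpr hu

end Det

end Groth.Agent.LieCartan
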