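import Mathlib

/-!
# Rank, regular elements and Engel subalgebras under extension of the base field
-/

set_option autoImplicit false
set_option backward.isDefEq.respectTransparency false
universe u v w

open scoped TensorProduct
open Module LieAlgebra LieSubalgebra

namespace Groth.Agent.LieCartan

attribute [local instance 100] LieRing.ofAssociativeRing

theorem natTrailingDegree_map {R : Type u} {S : Type w} [Semiring R] [Semiring S] {f : R →+* S}
    (hf : Function.Injective f) (p : Polynomial R) : (p.map f).natTrailingDegree = p.natTrailingDegree := by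
  by_cases hp : p = 0
  · simp [hp]
  refine le_antisymm (Polynomial.natTrailingDegree_le_of_ne_zero ?_) (Polynomial.le_natTrailingDegree
    (by rwa [Polynomial.map_ne_zero_iff hf]) fun m hm => by
      rw [Polynomial.coeff_map, Polynomial.coeff_eq_zero_of_lt_natTrailingDegree hm, map_zero])
  rw [Polynomial.coeff_map, map_ne_zero_iff f hf]
  exact Polynomial.trailingCoeff_nonzero_iff_nonzero.mpr hp

variable {K : Type u} [Field K] {L : Type v} [LieRing L] [LieAlgebra K L] [Module.Finite K L]

/-- The multiplicity of the eigenvalue zero of `ad x`. -/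
noncomputable abbrev adDeg (K : Type u) [Field K] {L : Type v} [LieRing L] [LieAlgebra K L] [Module.Finite K L]
    (x : L) : ℕ :=
  (ad K L x).charpoly.natTrailingDegree

theorem isRegular_iff_adDeg (x : L) : IsRegular K x ↔ adDeg K x = rank K L :=
  isRegular_iff_natTrailingDegree_charpoly_eq_rank K x

theorem adDeg_of_equiv {L' : Type w} [LieRing L'] [LieAlgebra K L'] [Module.Finite K L'] (e : L ≃ₗ[K] L')
    (he : ∀ x y, e ⁅x, y⁆ = ⁅e x, e y⁆) (x : L) : adDeg K (e x) = adDeg K x := by
  have h : (ad K L' (e x) : Module.End K L') = e.conj (ad K L x) := by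
    ext y
    rw [LinearEquiv.conj_apply_apply, ad_apply, ad_apply, he, LinearEquiv.apply_symm_apply]
  rw [adDeg, adDeg, h, LinearEquiv.charpoly_conj]

section BaseChange

variable (K' : Type w) [Field K'] [Algebra K K']

theorem adDeg_baseChange (x : L) : adDeg K' ((1 : K') ⊗ₜ[K] x : K' ⊗[K] L) = adDeg K x := by
  have h : (ad K' (K' ⊗[K] L) ((1 : K') ⊗ₜ[K] x) : Module.End K' (K' ⊗[K] L)) = (ad K L x).baseChange K' :=
    LieModule.toEnd_baseChange _ _ _ _ x
  rw [adDeg, adDeg, h, LinearMap.charpoly_baseChange]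
  exact (natTrailingDegree_map (algebraMap K K').injective _)

theorem rank_baseChange : rank K' (K' ⊗[K] L) = rank K L := by
  classical
  let b := Module.Free.chooseBasis K L
  rw [rank_eq_natTrailingDegree K L b, rank_eq_natTrailingDegree K' (K' ⊗[K] L) (Algebra.TensorProduct.basis K' b)]
  have h : ((ad K' (K' ⊗[K] L) : (K' ⊗[K] L) →ₗ⁅K'⁆ Module.End K' (K' ⊗[K] L))).toLinearMap =
      LinearMap.tensorProduct _ _ _ _ ∘ₗ ((ad K L : L →ₗ⁅K⁆ Module.End K L).toLinearMap).baseChange K' := by
    ext x y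
    simp [LinearMap.tensorProduct, LinearMap.tensorProductEnd]
  rw [h, LinearMap.polyCharpoly_baseChange]
  exact natTrailingDegree_map (MvPolynomial.map_injective _ (algebraMap K K').injective) _

theorem isRegular_baseChange (x : L) : IsRegular K' ((1 : K') ⊗ₜ[K] x : K' ⊗[K] L) ↔ IsRegular K x := by
  rw [isRegular_iff_adDeg, isRegular_iff_adDeg, adDeg_baseChange, rank_baseChange]

end BaseChange

theorem rank_le_of_equiv [Infinite K] {L' : Type w} [LieRing L'] [LieAlgebra K L'] [Module.Finite K L']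
    (e : L ≃ₗ[K] L') (he : ∀ x y, e ⁅x, y⁆ = ⁅e x, e y⁆) : rank K L' ≤ rank K L := by
  obtain ⟨x, hx⟩ := LieAlgebra.exists_isRegular K L
  rw [← (isRegular_iff_adDeg x).mp hx, ← adDeg_of_equiv e he x]
  exact rank_le_natTrailingDegree_charpoly_ad K _

theorem rank_eq_of_equiv {L' : Type w} [LieRing L'] [LieAlgebra K L'] [Module.Finite K L']
    (e : L ≃ₗ[K] L') (he : ∀ x y, e ⁅x, y⁆ = ⁅e x, e y⁆) : rank K L' = rank K L := by
  let F := AlgebraicClosure K
  let e' : F ⊗[K] L ≃ₗ[F] F ⊗[K] L' := e.baseChange K F L L'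
  have he' : ∀ x y, e' ⁅x, y⁆ = ⁅e' x, e' y⁆ := by
    intro x y
    induction x using TensorProduct.induction_on with
    | zero => simp
    | add a b ha hb => simp [add_lie, map_add, ha, hb]
    | tmul s a =>
      induction y using TensorProduct.induction_on with
      | zero => simp
      | add c d hc hd => simp [lie_add, map_add, hc, hd]
      | tmul t c => simp [e', he]
  rw [← rank_baseChange (L := L) F, ← rank_baseChange (L := L') F]
  refine le_antisymm (rank_le_of_equiv e' he') (rank_le_of_equiv e'.symm fun x y => e'.injective ?_)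
  rw [LinearEquiv.apply_symm_apply, he', LinearEquiv.apply_symm_apply, LinearEquiv.apply_symm_apply]

theorem isRegular_of_equiv {L' : Type w} [LieRing L'] [LieAlgebra K L'] [Module.Finite K L']
    (e : L ≃ₗ[K] L') (he : ∀ x y, e ⁅x, y⁆ = ⁅e x, e y⁆) (x : L) : IsRegular K (e x) ↔ IsRegular K x := by
  rw [isRegular_iff_adDeg, isRegular_iff_adDeg, adDeg_of_equiv e he, rank_eq_of_equiv e he]

theorem engel_smul {c : K} (hc : c ≠ 0) (x : L) : engel K (c • x) = engel K x := by
  ext y
  rw [mem_engel_iff, mem_engel_iff]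
  refine exists_congr fun n => ?_
  rw [map_smul, smul_pow, LinearMap.smul_apply, smul_eq_zero]
  exact or_iff_right (pow_ne_zero n hc)

theorem isRegular_smul {c : K} (hc : c ≠ 0) (x : L) : IsRegular K (c • x) ↔ IsRegular K x := by
  rw [isRegular_iff_finrank_engel_eq_rank, isRegular_iff_finrank_engel_eq_rank, engel_smul hc]

theorem ad_baseChange_pow (K' : Type w) [Field K'] [Algebra K K'] (x y : L) : ∀ n : ℕ,
    ((ad K' (K' ⊗[K] L) ((1 : K') ⊗ₜ[K] x)) ^ n) ((1 : K') ⊗ₜ[K] y) = (1 : K') ⊗ₜ[K] ((ad K L x ^ n) y)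
  | 0 => rfl
  | n + 1 => by
    rw [pow_succ', pow_succ', Module.End.mul_apply, Module.End.mul_apply, ad_baseChange_pow K' x y n, ad_apply,
      LieAlgebra.ExtendScalars.bracket_tmul, one_mul, ad_apply]

/-- Engel subalgebras of regular elements act nilpotently on themselves. -/
theorem engel_le_engel_of_isRegular_of_infinite [Infinite K] {x : L} (hx : IsRegular K x) {y : L}
    (hy : y ∈ engel K x) : engel K x ≤ engel K y := by
  set Ex : {engel K z | z ∈ engel K x} := ⟨engel K x, x, self_mem_engel _ _, rfl⟩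
  suffices IsBot Ex from @this ⟨engel K y, y, hy, rfl⟩
  apply engel_isBot_of_isMin
    (Cardinal.natCast_le_aleph0.trans <| Cardinal.infinite_iff.mp ‹Infinite K›) (engel K x) Ex le_rfl
  rintro ⟨_, z, hz, rfl⟩ hzx
  suffices finrank K (engel K x) ≤ finrank K (engel K z) by
    suffices engel K z = engel K x from this.ge
    apply LieSubalgebra.toSubmodule_injective
    exact Submodule.eq_of_le_of_finrank_le hzx this
  rw [(isRegular_iff_finrank_engel_eq_rank K x).mp hx]
  apply rank_le_finrank_engel

theorem engel_le_engel_of_isRegular {x : L} (hx : IsRegular K x) {y : L} (hy : y ∈ engel K x) :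
    engel K x ≤ engel K y := by
  intro z hz
  let F := AlgebraicClosure K
  have hmem : ∀ a b : L, b ∈ engel K a → (1 : F) ⊗ₜ[K] b ∈ engel F ((1 : F) ⊗ₜ[K] a : F ⊗[K] L) := by
    intro a b hb
    obtain ⟨n, hn⟩ := (mem_engel_iff K a b).mp hb
    exact (mem_engel_iff F _ _).mpr ⟨n, by rw [ad_baseChange_pow, hn, TensorProduct.tmul_zero]⟩
  obtain ⟨n, hn⟩ := (mem_engel_iff F _ _).mp
    (engel_le_engel_of_isRegular_of_infinite ((isRegular_baseChange F x).mpr hx) (hmem x y hy) (hmem x z hz))
  rw [ad_baseChange_pow] at hn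
  refine (mem_engel_iff K _ _).mpr ⟨n, ?_⟩
  exact (algebraMap K F).injective |> fun h => Module.FaithfullyFlat.tensorProduct_mk_injective (A := K) (B := F) L (by simpa using hn)

/-- A Cartan subalgebra over an infinite field is an Engel subalgebra of one of its elements. -/
theorem exists_engel_eq [Infinite K] (H : LieSubalgebra K L) [H.IsCartanSubalgebra] :
    ∃ x ∈ H, engel K x = H := by
  classical
  let P : ℕ → Prop := fun n => ∃ x ∈ H, finrank K (engel K x) = n
  have hP : ∃ n, P n := ⟨_, 0, H.zero_mem, rfl⟩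
  obtain ⟨x, hxH, hx⟩ := Nat.find_spec hP
  have hle : ∀ y ∈ H, H ≤ engel K y := fun y hy z hz => by
    have := (mem_zeroRootSubalgebra K L H z).mp (le_zeroRootSubalgebra K L H hz) ⟨y, hy⟩
    obtain ⟨n, hn⟩ := this
    exact (mem_engel_iff K _ _).mpr ⟨n, hn⟩
  set Ex : {engel K z | z ∈ H} := ⟨engel K x, x, hxH, rfl⟩
  have hbot : IsBot Ex := by
    apply engel_isBot_of_isMin
      (Cardinal.natCast_le_aleph0.trans <| Cardinal.infinite_iff.mp ‹Infinite K›) H Ex (hle x hxH)
    rintro ⟨_, z, hz, rfl⟩ hzx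
    suffices engel K z = engel K x from this.ge
    apply LieSubalgebra.toSubmodule_injective
    exact Submodule.eq_of_le_of_finrank_le hzx
      (le_of_eq_of_le hx (Nat.find_le ⟨z, hz, rfl⟩))
  refine ⟨x, hxH, le_antisymm (fun z hz => ?_) (hle x hxH)⟩
  rw [← zeroRootSubalgebra_eq_of_is_cartan K L H, mem_zeroRootSubalgebra]
  rintro ⟨y, hy⟩
  exact (mem_engel_iff K _ _).mp (@hbot ⟨engel K y, y, hy, rfl⟩ z hz)

end Groth.Agent.LieCartan
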