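import Groth.Prelude.Def_W4sga3xiixivxvCartan
import Groth.Agent.LieNilFib.Basic
import Groth.Agent.LieCartan.Field
import Groth.Agent.LieCartan.Endo

/-!
# Fibres of relative Cartan subalgebras and Engel subalgebras
-/

set_option autoImplicit false
set_option backward.isDefEq.respectTransparency false
universe u v w

open scoped TensorProduct
open Module LieAlgebra LieSubalgebra SGA3t2b

namespace Groth.Agent.LieCartan

attribute [local instance 100] LieRing.ofAssociativeRing

variable {A : Type u} [CommRing A]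

theorem isNilpotent_of_forall_exists_pow {R : Type v} [CommRing R] {M : Type w} [AddCommGroup M] [Module R M]
    [Module.Finite R M] (f : Module.End R M) (h : ∀ v, ∃ n, (f ^ n) v = 0) : IsNilpotent f := by
  classical
  choose n hn using h
  obtain ⟨S, hS⟩ := Module.finite_def.mp ‹Module.Finite R M›
  refine ⟨S.sup n, LinearMap.ext_on hS fun v hv => ?_⟩
  exact Module.End.pow_map_zero_of_le (Finset.le_sup hv) (hn v)

/-- Elements of a fibre become decomposable after multiplication by an element outside the prime. -/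
theorem exists_smul_eq_one_tmul (p : Ideal A) [p.IsPrime] {M : Type v} [AddCommGroup M] [Module A M]
    (z : p.ResidueField ⊗[A] M) : ∃ s : A, s ∉ p ∧ ∃ x : M, s • z = (1 : p.ResidueField) ⊗ₜ[A] x := by
  induction z using TensorProduct.induction_on with
  | zero => exact ⟨1, p.ne_top_iff_one.mp (Ideal.IsPrime.ne_top ‹_›), 0, by simp⟩
  | tmul r x =>
    obtain ⟨a, b, hb, rfl⟩ := IsFractionRing.div_surjective (A ⧸ p) r
    obtain ⟨a, rfl⟩ := Ideal.Quotient.mk_surjective a
    obtain ⟨b, rfl⟩ := Ideal.Quotient.mk_surjective b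
    have hbne : algebraMap (A ⧸ p) p.ResidueField (Ideal.Quotient.mk p b) ≠ 0 := fun h0 =>
      nonZeroDivisors.ne_zero hb (IsFractionRing.injective (A ⧸ p) p.ResidueField (by rw [h0, map_zero]))
    refine ⟨b, fun hbp => nonZeroDivisors.ne_zero hb (Ideal.Quotient.eq_zero_iff_mem.mpr hbp), a • x, ?_⟩
    rw [TensorProduct.smul_tmul', ← TensorProduct.smul_tmul]
    congr 1
    rw [Algebra.smul_def, Algebra.smul_def, mul_one, IsScalarTower.algebraMap_apply A (A ⧸ p) p.ResidueField,
      IsScalarTower.algebraMap_apply A (A ⧸ p) p.ResidueField]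
    show algebraMap (A ⧸ p) _ (Ideal.Quotient.mk p b) * _ = _
    rw [mul_div_cancel₀ _ hbne]
    rfl
  | add u v hu hv =>
    obtain ⟨s, hs, x, hx⟩ := hu
    obtain ⟨t, ht, y, hy⟩ := hv
    refine ⟨s * t, fun hh => (Ideal.IsPrime.mem_or_mem ‹_› hh).elim hs ht, t • x + s • y, ?_⟩
    rw [smul_add, TensorProduct.tmul_add, TensorProduct.tmul_smul, TensorProduct.tmul_smul, ← hx, ← hy,
      smul_smul, smul_smul, mul_comm t s]

variable {L : Type u} [LieRing L] [LieAlgebra A L]

section Ext

variable (K : Type w) [CommRing K] [Algebra A K]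

theorem ad_one_tmul (a : L) :
    (ad K (K ⊗[A] L) ((1 : K) ⊗ₜ[A] a) : Module.End K (K ⊗[A] L)) = (ad A L a).baseChange K :=
  LieModule.toEnd_baseChange _ _ _ _ a

theorem ad_one_tmul_pow (a : L) : ∀ n : ℕ,
    (ad K (K ⊗[A] L) ((1 : K) ⊗ₜ[A] a)) ^ n = ((ad A L a) ^ n).baseChange K
  | 0 => by rw [pow_zero, pow_zero]; ext; simp
  | n + 1 => by
    rw [pow_succ, pow_succ, ad_one_tmul_pow a n, ad_one_tmul]
    ext x
    simp

/-- The map from the base change of a subalgebra. -/
noncomputable abbrev incl (H : LieSubalgebra A L) : K ⊗[A] H →ₗ[K] K ⊗[A] L :=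
  ((H.incl : H →ₗ⁅A⁆ L) : H →ₗ[A] L).baseChange K

theorem incl_lie (H : LieSubalgebra A L) (u v : K ⊗[A] H) :
    incl K H ⁅u, v⁆ = ⁅incl K H u, incl K H v⁆ := by
  have e : ∀ w, incl K H w = LieAlgebra.ExtendScalars.map (AlgHom.id A K) H.incl w := by
    intro w
    induction w using TensorProduct.induction_on with
    | zero => exact (map_zero _).trans (map_zero _).symm
    | add a b ha hb => exact (map_add _ _ _).trans ((congrArg₂ _ ha hb).trans (map_add _ _ _).symm)
    | tmul s a => rfl
  rw [e, e, e]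
  exact LieHom.map_lie _ u v

theorem incl_ad_pow (H : LieSubalgebra A L) (u v : K ⊗[A] H) : ∀ n : ℕ,
    incl K H ((ad K (K ⊗[A] H) u ^ n) v) = (ad K (K ⊗[A] L) (incl K H u) ^ n) (incl K H v)
  | 0 => rfl
  | n + 1 => by
    rw [pow_succ', pow_succ', Module.End.mul_apply, Module.End.mul_apply, ad_apply, ad_apply, incl_lie,
      incl_ad_pow H u v n]

theorem exact_incl_mkQ (H : LieSubalgebra A L) :
    Function.Exact (incl K H) (H.toSubmodule.mkQ.baseChange K) :=
  lTensor_exact K (LinearMap.exact_subtype_mkQ H.toSubmodule) H.toSubmodule.mkQ_surjective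

theorem injective_incl (H : LieSubalgebra A L) [Module.Projective A (L ⧸ H.toSubmodule)] :
    Function.Injective (incl K H) := by
  obtain ⟨σ, hσ⟩ := Module.projective_lifting_property H.toSubmodule.mkQ LinearMap.id H.toSubmodule.mkQ_surjective
  let r : L →ₗ[A] H.toSubmodule := (LinearMap.id - σ ∘ₗ H.toSubmodule.mkQ).codRestrict H.toSubmodule fun x =>
    (Submodule.Quotient.mk_eq_zero _).mp (by
      rw [← Submodule.mkQ_apply]
      have := LinearMap.congr_fun hσ (H.toSubmodule.mkQ x)
      simp only [LinearMap.comp_apply, LinearMap.id_apply] at this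
      simp only [Submodule.mkQ_apply] at this
      simp [this])
  have hr : r ∘ₗ ((H.incl : H →ₗ⁅A⁆ L) : H →ₗ[A] L) = LinearMap.id := LinearMap.ext fun y => Subtype.ext (by
    show (y : L) - σ (H.toSubmodule.mkQ (y : L)) = (y : L)
    simp [r, (Submodule.Quotient.mk_eq_zero H.toSubmodule).mpr y.2])
  refine Function.LeftInverse.injective (g := r.baseChange K) fun z => ?_
  rw [incl, ← LinearMap.comp_apply, ← LinearMap.baseChange_comp, hr, LinearMap.baseChange_id]; rfl

end Ext

theorem finite_of_projective_quotient (H : LieSubalgebra A L) [Module.Finite A L]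
    [Module.Projective A (L ⧸ H.toSubmodule)] : Module.Finite A H := by
  obtain ⟨σ, hσ⟩ := Module.projective_lifting_property H.toSubmodule.mkQ LinearMap.id H.toSubmodule.mkQ_surjective
  have : Module.Finite A H.toSubmodule := Module.Finite.of_surjective
    ((LinearMap.id - σ ∘ₗ H.toSubmodule.mkQ).codRestrict H.toSubmodule fun x => (Submodule.Quotient.mk_eq_zero _).mp (by
      rw [← Submodule.mkQ_apply]
      have := LinearMap.congr_fun hσ (H.toSubmodule.mkQ x)
      simp only [LinearMap.comp_apply, LinearMap.id_apply] at this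
      simp only [Submodule.mkQ_apply] at this
      simp [this]))
    (fun y => ⟨(y : L), Subtype.ext (by
      simp [show H.toSubmodule.mkQ (y : L) = 0 from (Submodule.Quotient.mk_eq_zero _).mpr y.2])⟩)
  exact this

theorem mem_fibreSubmodule_iff (p : PrimeSpectrum A) (H : LieSubalgebra A L)
    (z : p.asIdeal.ResidueField ⊗[A] L) :
    z ∈ fibreSubmodule p H ↔ ∃ u, incl p.asIdeal.ResidueField H u = z := Iff.rfl

/-- The fibre as a Lie subalgebra. -/
noncomputable def fibreLie (p : PrimeSpectrum A) (H : LieSubalgebra A L) :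
    LieSubalgebra p.asIdeal.ResidueField (p.asIdeal.ResidueField ⊗[A] L) :=
  { fibreSubmodule p H with
    lie_mem' := fun {x y} hx hy => by
      obtain ⟨u, rfl⟩ := (mem_fibreSubmodule_iff p H x).mp hx
      obtain ⟨v, rfl⟩ := (mem_fibreSubmodule_iff p H y).mp hy
      exact ⟨⁅u, v⁆, incl_lie _ H u v⟩ }

theorem mem_fibreLie_iff (p : PrimeSpectrum A) (H : LieSubalgebra A L) (z : p.asIdeal.ResidueField ⊗[A] L) :
    z ∈ fibreLie p H ↔ ∃ u, incl p.asIdeal.ResidueField H u = z := Iff.rfl

/-- The operator induced on the quotient by an element of the subalgebra. -/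
noncomputable def quotAd (H : LieSubalgebra A L) {a : L} (ha : a ∈ H) : Module.End A (L ⧸ H.toSubmodule) :=
  H.toSubmodule.mapQ H.toSubmodule (ad A L a) fun _ hz => H.lie_mem ha hz

theorem quotAd_pow (H : LieSubalgebra A L) {a : L} (ha : a ∈ H) : ∀ (n : ℕ) (z : L),
    (quotAd H ha ^ n) (H.toSubmodule.mkQ z) = H.toSubmodule.mkQ ((ad A L a ^ n) z)
  | 0, z => rfl
  | n + 1, z => by
    rw [pow_succ', pow_succ', Module.End.mul_apply, Module.End.mul_apply, quotAd_pow H ha n z]
    rfl

theorem quotAd_baseChange_pow (H : LieSubalgebra A L) {a : L} (ha : a ∈ H) (K : Type w) [CommRing K] [Algebra A K] :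
    ∀ (n : ℕ) (z : K ⊗[A] L), ((quotAd H ha).baseChange K ^ n) (H.toSubmodule.mkQ.baseChange K z) =
      H.toSubmodule.mkQ.baseChange K ((ad K (K ⊗[A] L) ((1 : K) ⊗ₜ[A] a) ^ n) z)
  | 0, z => rfl
  | n + 1, z => by
    have hc : ∀ w : K ⊗[A] L, (quotAd H ha).baseChange K (H.toSubmodule.mkQ.baseChange K w) =
        H.toSubmodule.mkQ.baseChange K ((ad A L a).baseChange K w) := fun w => by
      induction w using TensorProduct.induction_on with
      | zero => simp only [map_zero]
      | add x y hx hy => simp only [map_add, hx, hy]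
      | tmul r x => rfl
    rw [pow_succ', pow_succ', Module.End.mul_apply, Module.End.mul_apply, quotAd_baseChange_pow H ha K n z, hc,
      ad_one_tmul]

theorem engel_le_fibreLie (p : PrimeSpectrum A) (H : LieSubalgebra A L) {a : L} (ha : a ∈ H)
    (hb : Function.Injective ((quotAd H ha).baseChange p.asIdeal.ResidueField)) :
    engel p.asIdeal.ResidueField ((1 : p.asIdeal.ResidueField) ⊗ₜ[A] a) ≤ fibreLie p H := by
  intro z hz
  obtain ⟨n, hn⟩ := (mem_engel_iff _ _ _).mp hz
  refine (mem_fibreLie_iff p H z).mpr ((exact_incl_mkQ _ H z).mp ?_)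
  have h := quotAd_baseChange_pow H ha p.asIdeal.ResidueField n z
  rw [hn, map_zero] at h
  have hinj : Function.Injective ⇑((quotAd H ha).baseChange p.asIdeal.ResidueField ^ n) := by
    rw [Module.End.coe_pow]; exact hb.iterate n
  exact hinj (h.trans (map_zero _).symm)

variable [Module.Finite A L] {H : LieSubalgebra A L}

theorem isCartanSubalgebra_fibreLie (hH : IsCartanRel H) (p : PrimeSpectrum A) :
    (fibreLie p H).IsCartanSubalgebra := by
  obtain ⟨hQ, hfib⟩ := hH
  haveI := hQ
  haveI := finite_of_projective_quotient H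
  haveI := (hfib p).1
  refine ⟨isNilpotent_of_forall_le_engel _ ?_, le_antisymm (fun x hx => ?_) (le_normalizer _)⟩
  · rintro _ ⟨u, rfl⟩ _ ⟨v, rfl⟩
    obtain ⟨n, hn⟩ := LieModule.isNilpotent_toEnd_of_isNilpotent p.asIdeal.ResidueField
      (p.asIdeal.ResidueField ⊗[A] H) (p.asIdeal.ResidueField ⊗[A] H) u
    refine (mem_engel_iff _ _ _).mpr ⟨n, ?_⟩
    show (ad _ _ (incl _ H u) ^ n) (incl _ H v) = 0
    rw [← incl_ad_pow, show ad p.asIdeal.ResidueField (p.asIdeal.ResidueField ⊗[A] H) u ^ n = 0 from hn,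
      LinearMap.zero_apply, map_zero]
  · exact (hfib p).2.1 x fun y hy => (mem_normalizer_iff _ x).mp hx y hy

theorem finrank_fibreLie (hH : IsCartanRel H) (p : PrimeSpectrum A) :
    finrank p.asIdeal.ResidueField (fibreLie p H) =
      rank p.asIdeal.ResidueField (p.asIdeal.ResidueField ⊗[A] L) :=
  (hH.2 p).2.2

theorem le_engel_of_mem (hH : IsCartanRel H) {a : L} (ha : a ∈ H) : H ≤ engel A a := by
  haveI := hH.1
  haveI := finite_of_projective_quotient H
  haveI : LieRing.IsNilpotent H :=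
    LieNilFib.isNilpotent_of_fibres (A := A) fun p hp => (hH.2 ⟨p, hp⟩).1
  obtain ⟨n, hn⟩ := LieModule.isNilpotent_toEnd_of_isNilpotent A H H ⟨a, ha⟩
  intro y hy
  refine (mem_engel_iff _ _ _).mpr ⟨n, ?_⟩
  have hcoe : ∀ (m : ℕ) (z : H), (((ad A H ⟨a, ha⟩) ^ m) z : L) = ((ad A L a) ^ m) (z : L) := by
    intro m
    induction m with
    | zero => intro z; rfl
    | succ m ih =>
      intro z
      rw [pow_succ', pow_succ', Module.End.mul_apply, Module.End.mul_apply, ← ih]
      rfl
  rw [← hcoe n ⟨y, hy⟩, show ad A H ⟨a, ha⟩ ^ n = 0 from hn]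
  rfl

theorem fibreLie_le_engel (hH : IsCartanRel H) {a : L} (ha : a ∈ H) (p : PrimeSpectrum A) :
    fibreLie p H ≤ engel p.asIdeal.ResidueField ((1 : p.asIdeal.ResidueField) ⊗ₜ[A] a) := by
  haveI := isCartanSubalgebra_fibreLie hH p
  intro z hz
  have hmem : (1 : p.asIdeal.ResidueField) ⊗ₜ[A] a ∈ fibreLie p H := ⟨1 ⊗ₜ ⟨a, ha⟩, rfl⟩
  obtain ⟨n, hn⟩ := (mem_zeroRootSubalgebra _ _ _ z).mp (le_zeroRootSubalgebra _ _ _ hz) ⟨_, hmem⟩
  exact (mem_engel_iff _ _ _).mpr ⟨n, hn⟩

theorem isRegular_iff_bijective_quotAd (hH : IsCartanRel H) {a : L} (ha : a ∈ H) (p : PrimeSpectrum A) :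
    IsRegular p.asIdeal.ResidueField ((1 : p.asIdeal.ResidueField) ⊗ₜ[A] a) ↔
      Function.Bijective ((quotAd H ha).baseChange p.asIdeal.ResidueField) := by
  constructor
  · intro hreg
    have heq : fibreLie p H = engel p.asIdeal.ResidueField ((1 : p.asIdeal.ResidueField) ⊗ₜ[A] a) :=
      LieSubalgebra.toSubmodule_injective (Submodule.eq_of_le_of_finrank_eq (fibreLie_le_engel hH ha p)
        ((finrank_fibreLie hH p).trans ((isRegular_iff_finrank_engel_eq_rank _ _).mp hreg).symm))
    have hinj : Function.Injective ((quotAd H ha).baseChange p.asIdeal.ResidueField) := by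
      rw [← LinearMap.ker_eq_bot, _root_.eq_bot_iff]
      intro v hv
      obtain ⟨z, rfl⟩ := LinearMap.lTensor_surjective p.asIdeal.ResidueField H.toSubmodule.mkQ_surjective v
      have h1 := quotAd_baseChange_pow H ha p.asIdeal.ResidueField 1 z
      rw [pow_one, pow_one] at h1
      have h2 := (exact_incl_mkQ p.asIdeal.ResidueField H _).mp (h1.symm.trans hv)
      replace h2 := (mem_fibreLie_iff p H _).mpr h2
      rw [heq] at h2
      obtain ⟨n, hn⟩ := (mem_engel_iff _ _ _).mp h2
      have h3 : z ∈ fibreLie p H := by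
        rw [heq]
        exact (mem_engel_iff _ _ _).mpr ⟨n + 1, by rw [pow_succ, Module.End.mul_apply]; exact hn⟩
      exact (Submodule.mem_bot _).mpr ((exact_incl_mkQ p.asIdeal.ResidueField H z).mpr
        ((mem_fibreLie_iff p H z).mp h3))
    exact ⟨hinj, LinearMap.surjective_of_injective hinj⟩
  · intro hb
    rw [isRegular_iff_finrank_engel_eq_rank, ← finrank_fibreLie hH p,
      le_antisymm (engel_le_fibreLie p H ha hb.1) (fibreLie_le_engel hH ha p)]

/-- A quasi-regular element of a relative Cartan subalgebra determines it. -/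
theorem eq_engel (hH : IsCartanRel H) {a : L} (ha : a ∈ H) (hq : IsQuasiRegular A L a) :
    H = engel A a ∧ Function.Bijective (quotAd H ha) := by
  haveI := hH.1
  obtain ⟨δ, h1, -, h3⟩ := exists_det (quotAd H ha)
  have hu : IsUnit δ := by
    by_contra hu
    obtain ⟨m, hm, hδ⟩ := exists_max_ideal_of_mem_nonunits hu
    haveI := hm.isPrime
    exact (h1 m.ResidueField).mpr ((isRegular_iff_bijective_quotAd hH ha ⟨m, hm.isPrime⟩).mp (hq ⟨m, hm.isPrime⟩))
      (Ideal.algebraMap_residueField_eq_zero.mpr hδ)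
  refine ⟨le_antisymm (le_engel_of_mem hH ha) fun y hy => ?_, h3 hu⟩
  obtain ⟨n, hn⟩ := (mem_engel_iff _ _ _).mp hy
  have h0 := quotAd_pow H ha n y
  rw [hn, map_zero] at h0
  have hinj : Function.Injective ⇑(quotAd H ha ^ n) := by
    rw [Module.End.coe_pow]; exact (h3 hu).1.iterate n
  exact (Submodule.Quotient.mk_eq_zero _).mp (hinj (h0.trans (map_zero _).symm))

/-- Engel subalgebras of quasi-regular elements with bijective action on a projective quotient. -/
theorem isCartanRel_engel {a : L} (hq : IsQuasiRegular A L a)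
    (hP : Module.Projective A (L ⧸ (engel A a).toSubmodule))
    (hb : Function.Bijective (quotAd (engel A a) (self_mem_engel A a))) : IsCartanRel (engel A a) := by
  haveI := hP
  haveI := finite_of_projective_quotient (engel A a)
  refine ⟨hP, fun p => ?_⟩
  have hinj : Function.Injective ((quotAd (engel A a) (self_mem_engel A a)).baseChange p.asIdeal.ResidueField) :=
    ((LinearEquiv.ofBijective _ hb).baseChange A p.asIdeal.ResidueField _ _).injective
  have heq : fibreLie p (engel A a) = engel p.asIdeal.ResidueField ((1 : p.asIdeal.ResidueField) ⊗ₜ[A] a) := by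
    refine le_antisymm ?_ (engel_le_fibreLie p _ _ hinj)
    rintro _ ⟨u, rfl⟩
    induction u using TensorProduct.induction_on with
    | zero => rw [map_zero]; exact zero_mem _
    | add x y hx hy => rw [map_add]; exact add_mem hx hy
    | tmul r y =>
      obtain ⟨n, hn⟩ := (mem_engel_iff A a _).mp y.2
      refine (mem_engel_iff _ _ _).mpr ⟨n, ?_⟩
      show (ad _ _ _ ^ n) (r ⊗ₜ[A] (y : L)) = 0
      rw [ad_one_tmul_pow, LinearMap.baseChange_tmul, hn, TensorProduct.tmul_zero]
  refine ⟨?_, fun x hx => ?_, ?_⟩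
  · rw [LieAlgebra.isNilpotent_iff_forall (R := p.asIdeal.ResidueField)]
    intro u
    apply isNilpotent_of_forall_exists_pow
    intro v
    have hmem : ∀ w, incl p.asIdeal.ResidueField (engel A a) w ∈
        engel p.asIdeal.ResidueField ((1 : p.asIdeal.ResidueField) ⊗ₜ[A] a) := fun w => heq ▸ ⟨w, rfl⟩
    obtain ⟨n, hn⟩ := (mem_engel_iff _ _ _).mp (engel_le_engel_of_isRegular (hq p) (hmem u) (hmem v))
    refine ⟨n, injective_incl _ _ ?_⟩
    rw [incl_ad_pow, hn, map_zero]
  · have h1 : x ∈ engel p.asIdeal.ResidueField ((1 : p.asIdeal.ResidueField) ⊗ₜ[A] a) := by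
      obtain ⟨n, hn⟩ := (mem_engel_iff _ _ _).mp (heq ▸ hx _ ⟨1 ⊗ₜ ⟨a, self_mem_engel A a⟩, rfl⟩ :
        ⁅x, (1 : p.asIdeal.ResidueField) ⊗ₜ[A] a⁆ ∈
          engel p.asIdeal.ResidueField ((1 : p.asIdeal.ResidueField) ⊗ₜ[A] a))
      refine (mem_engel_iff _ _ _).mpr ⟨n + 1, ?_⟩
      rw [pow_succ, Module.End.mul_apply, ad_apply, ← lie_skew, map_neg, hn, neg_zero]
    rw [← heq] at h1
    exact h1
  · show finrank _ (fibreLie p (engel A a)) = _
    exact (LinearEquiv.ofEq _ _ (congrArg LieSubalgebra.toSubmodule heq)).finrank_eq.trans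
      ((isRegular_iff_finrank_engel_eq_rank _ _).mp (hq p))

end Groth.Agent.LieCartan
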