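import Groth.Agent.LieCartan.Fibre

/-!
# Rank and regularity of the fibres under change of rings
-/

set_option autoImplicit false
set_option backward.isDefEq.respectTransparency false
universe u v w

open scoped TensorProduct
open Module LieAlgebra LieSubalgebra SGA3t2b

namespace Groth.Agent.LieCartan

attribute [local instance 100] LieRing.ofAssociativeRing

variable {A : Type u} [CommRing A] {L : Type u} [LieRing L] [LieAlgebra A L] [Module.Finite A L]

theorem lie_compat_of_tmul {R' : Type u} [CommRing R'] {K : Type u} [CommRing K] [Algebra R' K] {M' : Type v}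
    [LieRing M'] [LieAlgebra R' M'] {N : Type w} [LieRing N] (f : K ⊗[R'] M' →+ N)
    (h : ∀ s m t m', f ⁅s ⊗ₜ[R'] m, t ⊗ₜ[R'] m'⁆ = ⁅f (s ⊗ₜ[R'] m), f (t ⊗ₜ[R'] m')⁆) (x y : K ⊗[R'] M') :
    f ⁅x, y⁆ = ⁅f x, f y⁆ := by
  induction x using TensorProduct.induction_on with
  | zero => simp
  | add a b ha hb => simp [add_lie, map_add, ha, hb]
  | tmul s a =>
    induction y using TensorProduct.induction_on with
    | zero => simp
    | add c d hc hd => simp [lie_add, map_add, hc, hd]
    | tmul t b => exact h s a t b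

section Cancel

variable (R : Type u) [CommRing R] [Algebra A R] (K : Type u) [Field K] [Algebra A K] [Algebra R K]
  [IsScalarTower A R K]

/-- Cancellation of an intermediate base change. -/
noncomputable abbrev cancel : K ⊗[R] (R ⊗[A] L) ≃ₗ[K] K ⊗[A] L :=
  TensorProduct.AlgebraTensorModule.cancelBaseChange A R K K L

omit [Module.Finite A L] in
theorem cancel_tmul' (s : K) (a : R ⊗[A] L) : cancel R K (s ⊗ₜ[R] a) =
    s • LieAlgebra.ExtendScalars.map (IsScalarTower.toAlgHom A R K) (LieHom.id : L →ₗ⁅A⁆ L) a := by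
  induction a using TensorProduct.induction_on with
  | zero => rw [TensorProduct.tmul_zero, map_zero, map_zero, smul_zero]
  | add a₁ a₂ h₁ h₂ => rw [TensorProduct.tmul_add, map_add, h₁, h₂, map_add, smul_add]
  | tmul r x =>
    rw [LieAlgebra.ExtendScalars.map_apply_tmul, TensorProduct.smul_tmul']
    simp [Algebra.smul_def, mul_comm]

omit [Module.Finite A L] in
theorem cancel_lie (x y : K ⊗[R] (R ⊗[A] L)) : cancel R K ⁅x, y⁆ = ⁅cancel R K x, cancel R K y⁆ := by
  refine lie_compat_of_tmul (cancel R K : K ⊗[R] (R ⊗[A] L) ≃ₗ[K] K ⊗[A] L).toLinearMap.toAddMonoidHom ?_ x y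
  intro s a t b
  rw [LieAlgebra.ExtendScalars.bracket_tmul]
  show cancel R K ((s * t) ⊗ₜ[R] ⁅a, b⁆) = ⁅cancel R K (s ⊗ₜ[R] a), cancel R K (t ⊗ₜ[R] b)⁆
  rw [cancel_tmul', cancel_tmul', cancel_tmul', LieHom.map_lie, smul_lie, lie_smul, smul_smul]

theorem rank_cancel : rank K (K ⊗[R] (R ⊗[A] L)) = rank K (K ⊗[A] L) :=
  (rank_eq_of_equiv (cancel R K) (cancel_lie R K)).symm

theorem isRegular_cancel (z : R ⊗[A] L) :
    IsRegular K ((1 : K) ⊗ₜ[R] z) ↔ IsRegular K (cancel R K ((1 : K) ⊗ₜ[R] z)) :=
  (isRegular_of_equiv (cancel R K) (cancel_lie R K) _).symm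

theorem isRegular_cancel_one_tmul (a : L) :
    IsRegular K ((1 : K) ⊗ₜ[R] ((1 : R) ⊗ₜ[A] a)) ↔ IsRegular K ((1 : K) ⊗ₜ[A] a) := by
  rw [isRegular_cancel, TensorProduct.AlgebraTensorModule.cancelBaseChange_tmul, one_smul]

end Cancel

section Field

variable (A) (K : Type u) [Field K] [Algebra A K]

/-- The point of the spectrum under a field valued point. -/
def primeOf : PrimeSpectrum A := ⟨RingHom.ker (algebraMap A K), RingHom.ker_isPrime _⟩

/-- The map of residue fields. -/
noncomputable def residueHom : (primeOf A K).asIdeal.ResidueField →+* K :=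
  Ideal.ResidueField.lift (primeOf A K).asIdeal (algebraMap A K) (fun _ hx => hx) fun x hx => isUnit_iff_ne_zero.mpr hx

theorem residueHom_algebraMap (a : A) :
    residueHom A K (algebraMap A (primeOf A K).asIdeal.ResidueField a) = algebraMap A K a :=
  Ideal.ResidueField.lift_algebraMap _ _ _ _ a

variable {A}

theorem rank_field : rank K (K ⊗[A] L) =
    rank (primeOf A K).asIdeal.ResidueField ((primeOf A K).asIdeal.ResidueField ⊗[A] L) := by
  letI := (residueHom A K).toAlgebra
  haveI : IsScalarTower A (primeOf A K).asIdeal.ResidueField K :=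
    IsScalarTower.of_algebraMap_eq fun a => (residueHom_algebraMap A K a).symm
  rw [← rank_cancel (primeOf A K).asIdeal.ResidueField K, rank_baseChange]

theorem isRegular_field (a : L) : IsRegular K ((1 : K) ⊗ₜ[A] a) ↔
    IsRegular (primeOf A K).asIdeal.ResidueField ((1 : (primeOf A K).asIdeal.ResidueField) ⊗ₜ[A] a) := by
  letI := (residueHom A K).toAlgebra
  haveI : IsScalarTower A (primeOf A K).asIdeal.ResidueField K :=
    IsScalarTower.of_algebraMap_eq fun a => (residueHom_algebraMap A K a).symm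
  rw [← isRegular_cancel_one_tmul (primeOf A K).asIdeal.ResidueField K, isRegular_baseChange]

end Field

section Residue

variable {A' : Type u} [CommRing A'] [Algebra A A'] (q : PrimeSpectrum A')

theorem primeOf_residueField :
    primeOf A q.asIdeal.ResidueField = PrimeSpectrum.comap (algebraMap A A') q := by
  refine PrimeSpectrum.ext (Ideal.ext fun x => ?_)
  show algebraMap A q.asIdeal.ResidueField x = 0 ↔ algebraMap A A' x ∈ q.asIdeal
  rw [IsScalarTower.algebraMap_apply A A' q.asIdeal.ResidueField]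
  exact Ideal.algebraMap_residueField_eq_zero

theorem rank_fibre : rank q.asIdeal.ResidueField (q.asIdeal.ResidueField ⊗[A'] (A' ⊗[A] L)) =
    rank (PrimeSpectrum.comap (algebraMap A A') q).asIdeal.ResidueField
      ((PrimeSpectrum.comap (algebraMap A A') q).asIdeal.ResidueField ⊗[A] L) := by
  rw [rank_cancel, rank_field q.asIdeal.ResidueField, primeOf_residueField q]

theorem isRegular_fibre (a : L) :
    IsRegular q.asIdeal.ResidueField ((1 : q.asIdeal.ResidueField) ⊗ₜ[A'] ((1 : A') ⊗ₜ[A] a)) ↔
      IsRegular (PrimeSpectrum.comap (algebraMap A A') q).asIdeal.ResidueField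
        ((1 : (PrimeSpectrum.comap (algebraMap A A') q).asIdeal.ResidueField) ⊗ₜ[A] a) := by
  rw [isRegular_cancel_one_tmul, isRegular_field q.asIdeal.ResidueField, primeOf_residueField q]

end Residue

theorem isRegular_of_smul {p : PrimeSpectrum A} {s : A} (hs : s ∉ p.asIdeal)
    {x : p.asIdeal.ResidueField ⊗[A] L} : IsRegular p.asIdeal.ResidueField (s • x) ↔ IsRegular p.asIdeal.ResidueField x := by
  rw [← algebraMap_smul p.asIdeal.ResidueField s x]
  exact isRegular_smul (fun h => hs (Ideal.algebraMap_residueField_eq_zero.mp h)) x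

theorem exists_lift_regular {p : PrimeSpectrum A} {x : p.asIdeal.ResidueField ⊗[A] L}
    (hx : IsRegular p.asIdeal.ResidueField x) :
    ∃ a : L, IsRegular p.asIdeal.ResidueField ((1 : p.asIdeal.ResidueField) ⊗ₜ[A] a) := by
  obtain ⟨s, hs, a, ha⟩ := exists_smul_eq_one_tmul p.asIdeal x
  exact ⟨a, ha ▸ (isRegular_of_smul hs).mpr hx⟩

theorem coeff_ne_zero_iff {K : Type u} [Field K] {r : ℕ} (P : Polynomial K) (hP : P ≠ 0)
    (hr : r ≤ P.natTrailingDegree) : P.coeff r ≠ 0 ↔ P.natTrailingDegree = r :=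
  ⟨fun h => le_antisymm (Polynomial.natTrailingDegree_le_of_ne_zero h) hr,
    fun h => h ▸ Polynomial.trailingCoeff_nonzero_iff_nonzero.mpr hP⟩

variable [Module.Projective A L]

/-- On a locus of constant rank, regularity is the non-vanishing of a function. -/
theorem exists_regular_coeff (a : L) (r : ℕ) : ∃ c : A, ∀ q : PrimeSpectrum A,
    rank q.asIdeal.ResidueField (q.asIdeal.ResidueField ⊗[A] L) = r →
      (c ∉ q.asIdeal ↔ IsRegular q.asIdeal.ResidueField ((1 : q.asIdeal.ResidueField) ⊗ₜ[A] a)) := by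
  obtain ⟨n, i, π, h⟩ := exists_aug (A := A) (Q := L)
  let g : Module.End A L := ad A L a
  refine ⟨(aug1 i π g).charpoly.coeff r, fun q hq => ?_⟩
  have hdeg : ((aug1 i π g).baseChange q.asIdeal.ResidueField).charpoly.natTrailingDegree =
      adDeg q.asIdeal.ResidueField ((1 : q.asIdeal.ResidueField) ⊗ₜ[A] a) := by
    rw [baseChange_aug1, natTrailingDegree_charpoly_aug1 (baseChange_section _ h), ← ad_one_tmul]
  rw [isRegular_iff_adDeg, hq, ← hdeg, ← coeff_ne_zero_iff _ (LinearMap.charpoly_monic _).ne_zero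
    (hq ▸ hdeg ▸ rank_le_natTrailingDegree_charpoly_ad _ _), LinearMap.charpoly_baseChange, Polynomial.coeff_map]
  exact not_congr Ideal.algebraMap_residueField_eq_zero.symm

end Groth.Agent.LieCartan
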