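import Groth.Agent.LieCartan.Rel

/-!
# Quasi-regular elements over reduced bases with locally constant rank
-/

set_option autoImplicit false
set_option backward.isDefEq.respectTransparency false
universe u v w

open scoped TensorProduct
open Module LieAlgebra LieSubalgebra SGA3t2b

namespace Groth.Agent.LieCartan

attribute [local instance 100] LieRing.ofAssociativeRing

variable {A : Type u} [CommRing A] {L : Type u} [LieRing L] [LieAlgebra A L] [Module.Finite A L]

/-- The affine linear family of extended adjoint operators, homogenised. -/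
noncomputable def fam {n : ℕ} (i : L →ₗ[A] (Fin n → A)) (π : (Fin n → A) →ₗ[A] L) :
    ((Fin n → A) × A) →ₗ[A] Module.End A (Fin n → A) :=
  aug i π ∘ₗ (ad A L : L →ₗ⁅A⁆ Module.End A L).toLinearMap ∘ₗ π ∘ₗ LinearMap.fst A (Fin n → A) A +
    (LinearMap.snd A (Fin n → A) A).smulRight (compl i π)

theorem tensorProduct_fam {n : ℕ} (i : L →ₗ[A] (Fin n → A)) (π : (Fin n → A) →ₗ[A] L) (K : Type u) [CommRing K]
    [Algebra A K] (w : K ⊗[A] ((Fin n → A) × A)) :
    (LinearMap.tensorProduct A K _ _ ∘ₗ (fam i π).baseChange K) w =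
      aug (i.baseChange K) (π.baseChange K)
          (ad K (K ⊗[A] L) ((π ∘ₗ LinearMap.fst A (Fin n → A) A).baseChange K w)) +
        (TensorProduct.AlgebraTensorModule.rid A K K ((LinearMap.snd A (Fin n → A) A).baseChange K w)) •
          compl (i.baseChange K) (π.baseChange K) := by
  induction w using TensorProduct.induction_on with
  | zero => simp
  | add x y hx hy => simp only [map_add, hx, hy, add_smul]; abel
  | tmul s v =>
    refine LinearMap.ext fun z => ?_
    induction z using TensorProduct.induction_on with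
    | zero => simp
    | add x y hx hy => simp only [map_add, hx, hy]
    | tmul t x =>
      simp [fam, aug, compl, LinearMap.tensorProduct, LinearMap.tensorProductEnd, TensorProduct.tmul_add,
        TensorProduct.tmul_sub, TensorProduct.smul_tmul', smul_sub, TensorProduct.tmul_smul]

theorem le_natTrailingDegree_aug {K : Type u} [Field K] {Q : Type v} [AddCommGroup Q] [Module K Q]
    [Module.Finite K Q] {F : Type w} [AddCommGroup F] [Module K F] [Module.Finite K F] {i : Q →ₗ[K] F}
    {π : F →ₗ[K] Q} (h : π ∘ₗ i = LinearMap.id) (g : Module.End K Q) (t : K) :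
    g.charpoly.natTrailingDegree ≤ (aug i π g + t • compl i π).charpoly.natTrailingDegree := by
  rw [← LinearMap.finrank_maxGenEigenspace_zero_eq, ← LinearMap.finrank_maxGenEigenspace_zero_eq]
  have hi : Function.Injective i := Function.LeftInverse.injective (π_i h)
  rw [← ((g.maxGenEigenspace 0).equivMapOfInjective i hi).finrank_eq.symm]
  refine Submodule.finrank_mono ?_
  rintro _ ⟨x, hx, rfl⟩
  simp only [SetLike.mem_coe, Module.End.mem_maxGenEigenspace, zero_smul, sub_zero] at hx ⊢
  obtain ⟨n, hn⟩ := hx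
  refine ⟨n, ?_⟩
  have hpow : ∀ (n : ℕ) (x : Q), ((aug i π g + t • compl i π) ^ n) (i x) = i ((g ^ n) x) := by
    intro n
    induction n with
    | zero => intro x; rfl
    | succ n ih =>
      intro x
      rw [pow_succ, pow_succ, Module.End.mul_apply, Module.End.mul_apply, ← ih]
      congr 1
      simp [aug, compl, π_i h]
  rw [hpow, hn, map_zero]

theorem eq_zero_of_forall_eval {R : Type u} [CommRing R] [IsReduced R] {ι : Type v} (P : MvPolynomial ι R)
    (h : ∀ q : PrimeSpectrum R, ∀ x : ι → AlgebraicClosure q.asIdeal.ResidueField,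
      MvPolynomial.eval₂ (algebraMap R (AlgebraicClosure q.asIdeal.ResidueField)) x P = 0) : P = 0 := by
  refine MvPolynomial.ext _ _ fun m => ?_
  rw [MvPolynomial.coeff_zero]
  refine IsNilpotent.eq_zero (nilpotent_iff_mem_prime.mpr fun J hJ => ?_)
  let q : PrimeSpectrum R := ⟨J, hJ⟩
  have hP : MvPolynomial.map (algebraMap R (AlgebraicClosure q.asIdeal.ResidueField)) P = 0 :=
    MvPolynomial.funext fun x => by rw [MvPolynomial.eval_map, map_zero, h q x]
  have := congrArg (MvPolynomial.coeff m) hP
  rw [MvPolynomial.coeff_map, MvPolynomial.coeff_zero,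
    IsScalarTower.algebraMap_apply R q.asIdeal.ResidueField, map_eq_zero_iff _ (RingHom.injective _)] at this
  exact Ideal.algebraMap_residueField_eq_zero.mp this

variable [Module.Projective A L] [IsReduced A]

/-- The trailing coefficients of the extended adjoint vanish universally. -/
theorem exists_pow_eq {A' : Type u} [CommRing A'] [Algebra A A'] (a' : A' ⊗[A] L)
    (hC0 : ∀ p : PrimeSpectrum A, ∃ f : A, f ∉ p.asIdeal ∧ ∀ q : PrimeSpectrum A, f ∉ q.asIdeal →
        LieAlgebra.rank q.asIdeal.ResidueField (q.asIdeal.ResidueField ⊗[A] L) =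
          LieAlgebra.rank p.asIdeal.ResidueField (p.asIdeal.ResidueField ⊗[A] L))
    (ha' : IsQuasiRegular A' (A' ⊗[A] L) a') :
    ∃ N : ℕ, (∀ x, ∃ y, ((ad A' (A' ⊗[A] L) a') ^ N) x = ((ad A' (A' ⊗[A] L) a') ^ (N + 1)) y) ∧
      ∀ x, ((ad A' (A' ⊗[A] L) a') ^ (N + 1)) x = 0 → ((ad A' (A' ⊗[A] L) a') ^ N) x = 0 := by
  classical
  obtain ⟨n, i, π, h⟩ := exists_aug (A := A) (Q := L)
  set g : Module.End A' (A' ⊗[A] L) := ad A' (A' ⊗[A] L) a' with hg
  set iA := i.baseChange A' with hiA
  set πA := π.baseChange A' with hπA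
  have hA' : πA ∘ₗ iA = LinearMap.id := by
    rw [hπA, hiA, ← LinearMap.baseChange_comp, h, LinearMap.baseChange_id]
  set f := aug1 iA πA g with hf
  let b := Module.Free.chooseBasis A ((Fin n → A) × A)
  let C : ℕ → MvPolynomial _ A := fun j => (LinearMap.polyCharpoly (fam i π) b).coeff j
  let w : A' ⊗[A] ((Fin n → A) × A) :=
    (LinearMap.inl A (Fin n → A) A).baseChange A' (iA a') + (1 : A') ⊗ₜ[A] ((0, 1) : (Fin n → A) × A)
  have hw : (LinearMap.tensorProduct A A' _ _ ∘ₗ (fam i π).baseChange A') w = f := by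
    rw [tensorProduct_fam, hf]
    have e1 : (π ∘ₗ LinearMap.fst A (Fin n → A) A).baseChange A' w = a' := by
      simp only [w, map_add, LinearMap.baseChange_tmul, LinearMap.comp_apply, LinearMap.fst_apply, map_zero,
        TensorProduct.tmul_zero, add_zero]
      rw [← LinearMap.comp_apply, ← LinearMap.baseChange_comp, LinearMap.comp_assoc, LinearMap.fst_comp_inl,
        LinearMap.comp_id]
      exact LinearMap.congr_fun hA' a'
    have e2 : TensorProduct.AlgebraTensorModule.rid A A' A' ((LinearMap.snd A (Fin n → A) A).baseChange A' w) = 1 := by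
      simp only [w, map_add, LinearMap.baseChange_tmul, LinearMap.snd_apply]
      rw [← LinearMap.comp_apply, ← LinearMap.baseChange_comp, LinearMap.snd_comp_inl]
      simp
    rw [e1, e2, one_smul, ← hiA, ← hπA, ← hg, aug1]
  have hcoeff : ∀ j, f.charpoly.coeff j =
      MvPolynomial.eval₂ (algebraMap A A') ((Algebra.TensorProduct.basis A' b).repr w) (C j) := by
    intro j
    rw [← hw, ← LinearMap.polyCharpoly_coeff_eval _ (Algebra.TensorProduct.basis A' b),
      LinearMap.polyCharpoly_baseChange, Polynomial.coeff_map, MvPolynomial.eval_map]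
  have hloc : ∀ m : PrimeSpectrum A', ∃ (u : A') (k : Polynomial A'), u ∉ m.asIdeal ∧
      u • f ^ n = f ^ (n + 1) * Polynomial.aeval f k := by
    intro m
    obtain ⟨s, hs, hconst⟩ := hC0 (PrimeSpectrum.comap (algebraMap A A') m)
    set r := rank (PrimeSpectrum.comap (algebraMap A A') m).asIdeal.ResidueField
      ((PrimeSpectrum.comap (algebraMap A A') m).asIdeal.ResidueField ⊗[A] L) with hr
    have hzero : ∀ j < r, s • C j = 0 := by
      intro j hj
      refine eq_zero_of_forall_eval (R := A) _ fun q x => ?_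
      rw [MvPolynomial.smul_eq_C_mul, MvPolynomial.eval₂_mul, MvPolynomial.eval₂_C]
      by_cases hsq : s ∈ q.asIdeal
      · rw [IsScalarTower.algebraMap_apply A q.asIdeal.ResidueField (AlgebraicClosure q.asIdeal.ResidueField),
          Ideal.algebraMap_residueField_eq_zero.mpr hsq, map_zero, zero_mul]
      · suffices hC : MvPolynomial.eval₂ (algebraMap A (AlgebraicClosure q.asIdeal.ResidueField)) x (C j) = 0 by rw [hC, mul_zero]
        let bK := Algebra.TensorProduct.basis (AlgebraicClosure q.asIdeal.ResidueField) b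
        let v := bK.repr.symm (Finsupp.equivFunOnFinite.symm x)
        have hx : ⇑(bK.repr v) = x := by simp [v]
        rw [← hx, ← MvPolynomial.eval_map, ← Polynomial.coeff_map, ← LinearMap.polyCharpoly_baseChange,
          LinearMap.polyCharpoly_coeff_eval, tensorProduct_fam]
        refine Polynomial.coeff_eq_zero_of_lt_natTrailingDegree (lt_of_lt_of_le hj ?_)
        refine le_trans ?_ (le_natTrailingDegree_aug (baseChange_section (AlgebraicClosure q.asIdeal.ResidueField) h) _ _)
        refine le_trans (le_of_eq ?_) (rank_le_natTrailingDegree_charpoly_ad (AlgebraicClosure q.asIdeal.ResidueField) _)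
        rw [rank_field (AlgebraicClosure q.asIdeal.ResidueField), ← hconst q hsq]
        have hp : primeOf A (AlgebraicClosure q.asIdeal.ResidueField) = q := PrimeSpectrum.ext (Ideal.ext fun z => by
          show algebraMap A (AlgebraicClosure q.asIdeal.ResidueField) z = 0 ↔ z ∈ q.asIdeal
          rw [IsScalarTower.algebraMap_apply A q.asIdeal.ResidueField (AlgebraicClosure q.asIdeal.ResidueField), map_eq_zero_iff _ (RingHom.injective _)]
          exact Ideal.algebraMap_residueField_eq_zero)
        rw [hp]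
    have hvan : ∀ j < r, algebraMap A A' s * f.charpoly.coeff j = 0 := by
      intro j hj
      have := congrArg (MvPolynomial.eval₂ (algebraMap A A') ((Algebra.TensorProduct.basis A' b).repr w)) (hzero j hj)
      rwa [MvPolynomial.smul_eq_C_mul, MvPolynomial.eval₂_mul, MvPolynomial.eval₂_C, MvPolynomial.eval₂_zero,
        ← hcoeff] at this
    have hdeg : (f.baseChange m.asIdeal.ResidueField).charpoly.natTrailingDegree = r := by
      rw [hf, baseChange_aug1, natTrailingDegree_charpoly_aug1 (baseChange_section _ hA'), hg, ← ad_one_tmul, hr,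
        ← rank_fibre m]
      exact (isRegular_iff_adDeg _).mp (ha' m)
    have hr' : f.charpoly.coeff r ∉ m.asIdeal := by
      intro hmem
      have hne := (coeff_ne_zero_iff _ (LinearMap.charpoly_monic (f.baseChange m.asIdeal.ResidueField)).ne_zero
        hdeg.ge).mpr hdeg
      rw [LinearMap.charpoly_baseChange, Polynomial.coeff_map] at hne
      exact hne (Ideal.algebraMap_residueField_eq_zero.mpr hmem)
    haveI : Nontrivial A' := ⟨⟨0, 1, fun e => m.isPrime.ne_top ((Ideal.eq_top_iff_one _).mpr (e ▸ m.asIdeal.zero_mem))⟩⟩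
    haveI : Nontrivial A := RingHom.domain_nontrivial (algebraMap A A')
    have hrn : r ≤ n := by
      rw [← hdeg]
      refine (Polynomial.natTrailingDegree_le_natDegree _).trans (le_of_eq ?_)
      rw [LinearMap.charpoly_natDegree, Module.finrank_baseChange, Module.finrank_baseChange,
        Module.finrank_fin_fun]
    obtain ⟨hh, hhh⟩ : Polynomial.X ^ r ∣ Polynomial.C (algebraMap A A' s) * f.charpoly :=
      Polynomial.X_pow_dvd_iff.mpr fun d hd => by rw [Polynomial.coeff_C_mul, hvan d hd]
    refine ⟨hh.coeff 0, -hh.divX, fun hmem => ?_, ?_⟩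
    · have h0 := congrArg (fun P : Polynomial A' => P.coeff r) hhh
      simp only [Polynomial.coeff_C_mul] at h0
      have e : (Polynomial.X ^ r * hh).coeff r = hh.coeff 0 := by
        simpa using Polynomial.coeff_X_pow_mul hh r 0
      rw [e] at h0
      exact (m.isPrime.mem_or_mem (h0 ▸ hmem)).elim hs hr'
    · have hker : f ^ r * Polynomial.aeval f hh = 0 := by
        have := congrArg (Polynomial.aeval f) hhh
        rw [map_mul, map_mul, LinearMap.aeval_self_charpoly, mul_zero, map_pow, Polynomial.aeval_X] at this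
        exact this.symm
      have hn : f ^ n * Polynomial.aeval f hh = 0 := by
        rw [show f ^ n = f ^ (n - r) * f ^ r by rw [← pow_add, Nat.sub_add_cancel hrn], mul_assoc, hker, mul_zero]
      rw [← Polynomial.X_mul_divX_add hh, map_add, map_mul, Polynomial.aeval_X, Polynomial.aeval_C,
        Algebra.algebraMap_eq_smul_one, mul_add, mul_smul_comm, mul_one, ← mul_assoc, ← pow_succ] at hn
      rw [map_neg]
      refine LinearMap.ext fun x => ?_
      have h5 := LinearMap.congr_fun hn x
      rw [LinearMap.add_apply, LinearMap.zero_apply] at h5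
      show _ = (f ^ (n + 1)) (-(Polynomial.aeval f hh.divX x))
      rw [map_neg]
      exact eq_neg_of_add_eq_zero_right h5
  let J : Ideal A' :=
    { carrier := {u | ∃ k : Polynomial A', u • f ^ n = f ^ (n + 1) * Polynomial.aeval f k}
      add_mem' := fun ⟨k₁, h₁⟩ ⟨k₂, h₂⟩ => ⟨k₁ + k₂, by rw [add_smul, h₁, h₂, map_add, mul_add]⟩
      zero_mem' := ⟨0, by rw [zero_smul, map_zero, mul_zero]⟩
      smul_mem' := fun c _ ⟨k, hk⟩ => ⟨c • k, by rw [smul_eq_mul, mul_smul, hk, map_smul, mul_smul_comm]⟩ }
  have hJ : J = ⊤ := by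
    by_contra hJ
    obtain ⟨m, hm, hJm⟩ := Ideal.exists_le_maximal J hJ
    obtain ⟨u, k, hu, huk⟩ := hloc ⟨m, hm.isPrime⟩
    exact hu (hJm ⟨k, huk⟩)
  obtain ⟨k, hk⟩ := (hJ ▸ Submodule.mem_top : (1 : A') ∈ J)
  rw [one_smul] at hk
  have hpow : ∀ j x, (f ^ j) (iA x) = iA ((g ^ j) x) := fun j x => by
    rw [hf, aug1_pow hA', aug1_i hA']
  have hπ : ∀ j v, πA ((f ^ j) v) = (g ^ j) (πA v) := fun j v => by
    rw [hf, aug1_pow hA', π_aug1 hA']
  refine ⟨n, fun x => ⟨πA (Polynomial.aeval f k (iA x)), ?_⟩, fun x hx => ?_⟩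
  · rw [← hπ, ← Module.End.mul_apply, ← hk, hπ, π_i hA']
  · have h1 : (f ^ n) (iA x) = 0 := by
      have hcomm : f ^ (n + 1) * Polynomial.aeval f k = Polynomial.aeval f k * f ^ (n + 1) := by
        rw [show f ^ (n + 1) = Polynomial.aeval f (Polynomial.X ^ (n + 1) : Polynomial A') by
          rw [map_pow, Polynomial.aeval_X], ← map_mul, ← map_mul, mul_comm]
      rw [hk, hcomm, Module.End.mul_apply, hpow, hx, map_zero, map_zero]
    rw [hpow] at h1
    exact Function.LeftInverse.injective (π_i hA') (h1.trans (map_zero iA).symm)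

/-- Quasi-regular elements over a reduced base of locally constant rank are regular. -/
theorem isRegularRel_of_isReduced {A' : Type u} [CommRing A'] [Algebra A A'] (a' : A' ⊗[A] L)
    (hC0 : ∀ p : PrimeSpectrum A, ∃ f : A, f ∉ p.asIdeal ∧ ∀ q : PrimeSpectrum A, f ∉ q.asIdeal →
        LieAlgebra.rank q.asIdeal.ResidueField (q.asIdeal.ResidueField ⊗[A] L) =
          LieAlgebra.rank p.asIdeal.ResidueField (p.asIdeal.ResidueField ⊗[A] L))
    (ha' : IsQuasiRegular A' (A' ⊗[A] L) a') : IsRegularRel A' (A' ⊗[A] L) a' := by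
  obtain ⟨N, hN1, hN2⟩ := exists_pow_eq a' hC0 ha'
  set g : Module.End A' (A' ⊗[A] L) := ad A' (A' ⊗[A] L) a' with hg
  have hstab : ∀ (j : ℕ) x, (g ^ (N + j)) x = 0 → (g ^ N) x = 0 := by
    intro j
    induction j with
    | zero => exact fun x hx => hx
    | succ j ih =>
      intro x hx
      rw [show N + (j + 1) = (N + 1) + j by omega, pow_add, Module.End.mul_apply] at hx
      have := hN2 _ hx
      rw [← Module.End.mul_apply, ← pow_add] at this
      exact ih x this
  have hE : ∀ x, x ∈ engel A' a' ↔ (g ^ N) x = 0 := fun x => by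
    rw [mem_engel_iff]
    exact ⟨fun ⟨j, hj⟩ => hstab j x (Module.End.pow_map_zero_of_le (Nat.le_add_left _ _) hj), fun h => ⟨N, h⟩⟩
  have hrange : ∀ (j : ℕ) x, ∃ y, (g ^ N) x = (g ^ (N + j)) y := by
    intro j
    induction j with
    | zero => exact fun x => ⟨x, rfl⟩
    | succ j ih =>
      intro x
      obtain ⟨y, hy⟩ := ih x
      obtain ⟨z, hz⟩ := hN1 y
      refine ⟨z, ?_⟩
      rw [hy, show N + j = j + N by omega, pow_add, Module.End.mul_apply, hz, ← Module.End.mul_apply, ← pow_add,
        show j + (N + 1) = N + (j + 1) by omega]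
  have hcompl : IsCompl (engel A' a').toSubmodule (LinearMap.range (g ^ N)) := by
    refine IsCompl.of_eq ?_ ?_
    · rw [_root_.eq_bot_iff]
      rintro _ ⟨hx, y, rfl⟩
      have h1 := (hE _).mp hx
      rw [← Module.End.mul_apply, ← pow_add] at h1
      exact (Submodule.mem_bot _).mpr (hstab N y h1)
    · rw [_root_.eq_top_iff]
      intro x _
      obtain ⟨y, hy⟩ := hrange N x
      have h1 : x - (g ^ N) y ∈ (engel A' a').toSubmodule := (hE _).mpr (by
        rw [map_sub, hy, pow_add, Module.End.mul_apply, sub_self])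
      rw [← sub_add_cancel x ((g ^ N) y)]
      exact Submodule.add_mem_sup h1 (LinearMap.mem_range_self _ y)
  have hP : Module.Projective A' ((A' ⊗[A] L) ⧸ (engel A' a').toSubmodule) := by
    refine Module.Projective.of_split ((LinearMap.range (g ^ N)).subtype ∘ₗ
      (Submodule.quotientEquivOfIsCompl _ _ hcompl).toLinearMap) (engel A' a').toSubmodule.mkQ ?_
    refine LinearMap.ext fun z => ?_
    show Submodule.Quotient.mk _ = z
    exact Submodule.mk_quotientEquivOfIsCompl_apply hcompl z
  refine ⟨ha', engel A' a', isCartanRel_engel ha' hP ⟨?_, ?_⟩, self_mem_engel _ _⟩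
  · rw [← LinearMap.ker_eq_bot, _root_.eq_bot_iff]
    intro z hz
    obtain ⟨x, rfl⟩ := Submodule.mkQ_surjective _ z
    have h1 : g x ∈ (engel A' a').toSubmodule := (Submodule.Quotient.mk_eq_zero _).mp hz
    refine (Submodule.mem_bot _).mpr ((Submodule.Quotient.mk_eq_zero _).mpr ((hE x).mpr (hN2 x ?_)))
    rw [pow_succ, Module.End.mul_apply]
    exact (hE _).mp h1
  · intro z
    obtain ⟨y, rfl⟩ := Submodule.mkQ_surjective _ z
    obtain ⟨w, hw⟩ := hN1 y
    refine ⟨Submodule.Quotient.mk w, ((Submodule.Quotient.eq _).mpr ?_)⟩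
    refine (hE _).mpr ?_
    show (g ^ N) (g w - y) = 0
    rw [map_sub, hw, pow_succ, Module.End.mul_apply, sub_self]

end Groth.Agent.LieCartan
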